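import Cfsg.Agent.Lib.CharCorr.Solvable
import Cfsg.Agent.Lib.CharCorr.QuotientTools
import Cfsg.Agent.Lib.Characters.Extension
import Cfsg.Agent.Lib.Characters.ExtensionUnique
import Cfsg.Agent.Lib.Characters.Clifford
import Cfsg.Agent.Lib.Characters.Induction
import Mathlib.GroupTheory.GroupAction.Quotient
import Mathlib.GroupTheory.Sylow

/-!
# Characters of degree prime to `p` over invariant characters
-/

set_option autoImplicit false
set_option linter.style.haveILetI false
set_option linter.unusedSectionVars false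
set_option linter.unusedFintypeInType false

namespace CfsgLib.CrossDegrees

open Cfsg
open CfsgLib.Characters
open CfsgLib.CharCorr (mult mult_spec)
open scoped ComplexConjugate

universe u
variable {G : Type u} [Group G]

/-- A group is not the union of the conjugates of a proper subgroup. -/
theorem eq_top_of_forall_conj_mem [Finite G] {E : Subgroup G}
    (h : ∀ x : G, ∃ g : G, g * x * g⁻¹ ∈ E) : E = ⊤ := by
  classical
  haveI := Fintype.ofFinite G
  haveI := Fintype.ofFinite (G ⧸ E)
  haveI := Fintype.ofFinite (Quotient (MulAction.orbitRel G (G ⧸ E)))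
  have hb := MulAction.sum_card_fixedBy_eq_card_orbits_mul_card_group G (G ⧸ E)
  haveI : Subsingleton (Quotient (MulAction.orbitRel G (G ⧸ E))) := by
    refine ⟨fun a b => ?_⟩
    induction a using Quotient.inductionOn' with
    | h a =>
      induction b using Quotient.inductionOn' with
      | h b => exact Quotient.sound' (MulAction.exists_smul_eq G b a)
  rw [show Fintype.card (Quotient (MulAction.orbitRel G (G ⧸ E))) = 1 from
    le_antisymm (Fintype.card_le_one_iff_subsingleton.2 inferInstance)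
      (Fintype.card_pos_iff.2 ⟨Quotient.mk'' (QuotientGroup.mk (1 : G))⟩), one_mul] at hb
  have hone : Fintype.card (MulAction.fixedBy (G ⧸ E) (1 : G)) = Fintype.card (G ⧸ E) := by
    refine Fintype.card_congr (Equiv.subtypeUnivEquiv fun a => ?_)
    exact one_smul G a
  have hge : ∀ g : G, 1 ≤ Fintype.card (MulAction.fixedBy (G ⧸ E) g) := by
    intro g
    obtain ⟨k, hk⟩ := h g
    refine Fintype.card_pos_iff.2 ⟨⟨QuotientGroup.mk k⁻¹, ?_⟩⟩
    rw [MulAction.mem_fixedBy]
    change QuotientGroup.mk (g * k⁻¹) = QuotientGroup.mk k⁻¹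
    refine (QuotientGroup.eq.2 ?_).symm
    rwa [inv_inv, ← mul_assoc]
  have hsum : Fintype.card (G ⧸ E) + (Fintype.card G - 1) ≤ Fintype.card G := by
    calc Fintype.card (G ⧸ E) + (Fintype.card G - 1)
        = Fintype.card (MulAction.fixedBy (G ⧸ E) (1 : G)) +
            ∑ g ∈ Finset.univ.erase (1 : G), 1 := by
          rw [hone, Finset.sum_const, Finset.card_erase_of_mem (Finset.mem_univ _), smul_eq_mul,
            mul_one, Finset.card_univ]
      _ ≤ Fintype.card (MulAction.fixedBy (G ⧸ E) (1 : G)) +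
            ∑ g ∈ Finset.univ.erase (1 : G), Fintype.card (MulAction.fixedBy (G ⧸ E) g) :=
          Nat.add_le_add_left (Finset.sum_le_sum fun g _ => hge g) _
      _ = _ := (Finset.add_sum_erase Finset.univ _ (Finset.mem_univ _)).trans hb
  have hpos : 0 < Fintype.card G := Fintype.card_pos
  have hpos2 : 0 < Fintype.card (G ⧸ E) := Fintype.card_pos
  rw [← Subgroup.index_eq_one, Subgroup.index_eq_card, Nat.card_eq_fintype_card]
  omega

variable {p : ℕ}

/-- Over a character of `p'`-degree of a subgroup of `p'`-index lies one of `p'`-degree. -/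
theorem exists_over [Finite G] (H : Subgroup G) [Fintype H] (ψ : IrrCharacter H)
    (hψ : ¬ p ∣ charDegree (ψ : H → ℂ)) (hidx : ¬ p ∣ H.index) (hp : p.Prime) :
    ∃ χ : IrrCharacter G, ¬ p ∣ charDegree (χ : G → ℂ) ∧ mult H.subtype χ ψ ≠ 0 := by
  classical
  haveI := Fintype.ofFinite G
  have hF : IsCharacter G (indFun H (ψ : H → ℂ)) :=
    CfsgLib.Induction.isCharacter_indFun H (irr_isCharacter ψ)
  have h1 := congrFun (classFunction_eq_sum (isClassFunction_of_isCharacter hF)) 1
  rw [CfsgLib.Induction.indFun_one_apply, Finset.sum_apply] at h1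
  have hc : ∀ χ : IrrCharacter G,
      classInner (indFun H (ψ : H → ℂ)) (χ : G → ℂ) = (mult H.subtype χ ψ : ℂ) := by
    intro χ
    rw [CfsgLib.Induction.classInner_indFun H _ (irr_isClassFunction χ),
      CfsgLib.Induction.classInner_swap]
    rw [show classInner (fun h : H => (χ : G → ℂ) h) (ψ : H → ℂ) = (mult H.subtype χ ψ : ℂ) from
      mult_spec H.subtype χ ψ, Complex.conj_natCast]
  simp only [Pi.smul_apply, smul_eq_mul, hc, CfsgLib.CharCorr.irr_one_eq_charDegree] at h1
  have h2 : H.index * charDegree (ψ : H → ℂ) =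
      ∑ χ : IrrCharacter G, mult H.subtype χ ψ * charDegree (χ : G → ℂ) := by
    exact_mod_cast h1
  by_contra hcon
  push Not at hcon
  refine (hp.dvd_mul.not.2 (not_or.2 ⟨hidx, hψ⟩)) (h2 ▸ Finset.dvd_sum fun χ _ => ?_)
  by_cases hm : mult H.subtype χ ψ = 0
  · rw [hm, zero_mul]; exact dvd_zero p
  · exact dvd_mul_of_dvd_right (by_contra fun hd => hm (hcon χ hd)) _

/-- An invariant character of a normal subgroup of coprime index extends. -/
theorem exists_extension [Finite G] (N : Subgroup G) [hN : N.Normal] [Fintype N]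
    (hc : Nat.Coprime N.index (Nat.card N)) (θ : IrrCharacter N)
    (hinv : ∀ (g : G) (n : N),
      (θ : N → ℂ) ⟨g * n * g⁻¹, hN.conj_mem (n : G) n.2 g⟩ = (θ : N → ℂ) n) :
    ∃ χ : IrrCharacter G, ∀ n : N, (χ : G → ℂ) n = (θ : N → ℂ) n := by
  classical
  haveI := Fintype.ofFinite G
  have hd := CfsgLib.CharCorr.irr_one_eq_charDegree θ
  have hcop' : Nat.Coprime N.index (charDegree (θ : N → ℂ)) :=
    hc.coprime_dvd_right (CfsgLib.CharCorr.charDegree_irr_dvd_card θ)
  obtain ⟨hdc, hd1⟩ := CfsgLib.CharExtension.isCharacter_detChar N θ.2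
  obtain ⟨f, hf⟩ := CfsgLib.LinearExt.exists_unitsHom hdc hd1
  have hfinv : ∀ (g : G) (n : N), f ⟨g * n * g⁻¹, hN.conj_mem (n : G) n.2 g⟩ = f n := fun g n =>
    Units.ext (by
      have := CfsgLib.CharExtension.detChar_invariant N θ.2 hinv g n
      rw [hf] at this
      exact this)
  have hext : ∃ μ : G →* ℂˣ, ∀ n : N, μ n = f n := by
    refine CfsgLib.LinearExt.extends_of_coprime hc
      (CfsgLib.LinearExt.powExtends_index (fun g n => hfinv g n) le_rfl f fun n => rfl)
      (CfsgLib.LinearExt.powExtends_of_pow_eq_one (MonoidHom.ext fun n => ?_))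
    rw [MonoidHom.pow_apply, ← map_pow, pow_card_eq_one', map_one, MonoidHom.one_apply]
  obtain ⟨μ, hμ⟩ := hext
  obtain ⟨χ₀, hχ₀, hres₀⟩ := CfsgLib.CharExtension.extends_of_det N θ.2 hinv _ hd hcop'
    (fun g => (μ g : ℂ)) (isCharacter_of_irr (isIrrCharacter_of_hom μ)) (by simp) (fun n => by
      rw [hμ, hf])
  exact ⟨⟨χ₀, hχ₀⟩, hres₀⟩

/-- Over a `P`-invariant character of a normal `p'`-subgroup lies one of `p'`-degree. -/
theorem exists_over_invariant [Finite G] [hp : Fact p.Prime] (N : Subgroup G) [hN : N.Normal]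
    [Fintype N] (hpN : ¬ p ∣ Nat.card N) (P : Sylow p G) (φ : IrrCharacter N)
    (hφ : (P : Subgroup G) ≤ CfsgLib.Clifford.inertia hN (φ : N → ℂ)) :
    ∃ χ : IrrCharacter G, ¬ p ∣ charDegree (χ : G → ℂ) ∧ mult N.subtype χ φ ≠ 0 := by
  classical
  set A : Subgroup G := N ⊔ (P : Subgroup G)
  haveI := Fintype.ofFinite A
  let N' : Subgroup A := N.subgroupOf A
  haveI : Fintype N' := Fintype.ofFinite _
  have hN' : N'.Normal := hN.subgroupOf A
  let e : N' ≃* N := Subgroup.subgroupOfEquivOfLe le_sup_left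
  let φ' : IrrCharacter N' := ⟨fun n => (φ : N → ℂ) (e n),
    CfsgLib.Clifford.isIrrCharacter_pullback φ.2 e.toMonoidHom e.surjective⟩
  have hA : A ≤ CfsgLib.Clifford.inertia hN (φ : N → ℂ) :=
    sup_le (CfsgLib.Clifford.le_inertia hN (irr_isClassFunction φ)) hφ
  have hinv : ∀ (g : A) (n : N'),
      (φ' : N' → ℂ) ⟨g * n * g⁻¹, hN'.conj_mem (n : A) n.2 g⟩ = (φ' : N' → ℂ) n := fun g n =>
    CfsgLib.Clifford.mem_inertia.1 (hA g.2) (e n)
  have hc : Nat.Coprime N'.index (Nat.card N') := by
    rw [Nat.card_congr e.toEquiv]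
    obtain ⟨k, hk⟩ := IsPGroup.iff_card.1 P.isPGroup'
    have hd : N'.index ∣ p ^ k := by
      rw [← hk]
      change N.relIndex (N ⊔ (P : Subgroup G)) ∣ _
      rw [Subgroup.relIndex_sup_left]
      exact Subgroup.relIndex_dvd_card _ _
    exact ((hp.out.coprime_iff_not_dvd.2 hpN).pow_left k).coprime_dvd_left hd
  obtain ⟨ψ, hψ⟩ := exists_extension N' hc φ' hinv
  have hψd : ¬ p ∣ charDegree (ψ : A → ℂ) := by
    have h1 := hψ 1
    rw [Subgroup.coe_one, CfsgLib.CharCorr.irr_one_eq_charDegree,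
      CfsgLib.CharCorr.irr_one_eq_charDegree, Nat.cast_inj] at h1
    intro hd
    have h2 := CfsgLib.CharCorr.charDegree_irr_dvd_card φ'
    rw [← h1, Nat.card_congr e.toEquiv] at h2
    exact hpN (hd.trans h2)
  obtain ⟨χ, hχd, hχ⟩ := exists_over A ψ hψd
    (fun hd => P.not_dvd_index (hd.trans (Subgroup.index_dvd_of_le le_sup_right))) hp.out
  refine ⟨χ, hχd, ?_⟩
  let i : N →* A := Subgroup.inclusion le_sup_left
  have hres : ((ψ : A → ℂ) ∘ i) = (φ : N → ℂ) := funext fun n => by
    have h := hψ (e.symm n)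
    rw [show ((e.symm n : N') : A) = i n from Subtype.ext rfl] at h
    simpa [φ'] using h
  have h1 : mult i ψ φ = 1 := CfsgLib.CharCorr.mult_eq_of_classInner_eq _ _ _ (by
    rw [hres, classInner_irr_self φ.2, Nat.cast_one])
  have h2 := CfsgLib.CharCorrQ.mult_mul_le_comp A.subtype i χ ψ φ
  rw [h1, mul_one] at h2
  intro h0
  exact hχ (Nat.le_zero.1 (h0 ▸ h2))

/-- A constituent's inertia index is prime to every prime not dividing the degree. -/
theorem not_dvd_index_inertia [Finite G] {q : ℕ} (N : Subgroup G) [hN : N.Normal] [Fintype N]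
    (χ : IrrCharacter G) (hχ : ¬ q ∣ charDegree (χ : G → ℂ)) (φ : IrrCharacter N)
    (hm : mult N.subtype χ φ ≠ 0) :
    ¬ q ∣ (CfsgLib.Clifford.inertia hN (φ : N → ℂ)).index := by
  classical
  haveI := Fintype.ofFinite G
  have hs : classInner (fun n : N => (χ : G → ℂ) n) (φ : N → ℂ) = (mult N.subtype χ φ : ℂ) :=
    mult_spec N.subtype χ φ
  have h := CfsgLib.Clifford.clifford_degree hN χ.2 φ.2 (by rw [hs]; exact_mod_cast hm)
  rw [hs, CfsgLib.CharCorr.irr_one_eq_charDegree, CfsgLib.CharCorr.irr_one_eq_charDegree] at h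
  have h2 : charDegree (χ : G → ℂ) = mult N.subtype χ φ *
      (CfsgLib.Clifford.inertia hN (φ : N → ℂ)).index * charDegree (φ : N → ℂ) := by
    exact_mod_cast h
  intro hd
  exact hχ (h2 ▸ (hd.mul_left _).mul_right _)

end CfsgLib.CrossDegrees
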