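import Mathlib.GroupTheory.PGroup
import Mathlib.GroupTheory.FiniteAbelian.Duality
import Mathlib.Analysis.Complex.Polynomial.Basic
import Mathlib.RingTheory.RootsOfUnity.Complex
import Mathlib.RingTheory.RootsOfUnity.AlgebraicallyClosed

/-!
# Commuting coprime operators on an abelian `p`-group and its linear characters
-/

set_option autoImplicit false
set_option linter.style.haveILetI false
set_option linter.unusedSectionVars false

namespace CfsgLib.CrossDegrees

/-- If operators `B` of order prime to `p` fix every linear character fixed by a commuting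
`p`-group of operators on an abelian `p`-group, they act trivially. -/
theorem fixed_all {p : ℕ} [hp : Fact p.Prime] {V : Type*} [CommGroup V] [Finite V]
    (hV : IsPGroup p V) {A B : Type*} [Group A] [Group B] [Finite A] [Finite B]
    (hA : IsPGroup p A) (hB : ¬ p ∣ Nat.card B) (a : A →* MulAut V) (b : B →* MulAut V)
    (hab : ∀ x y v, a x (b y v) = b y (a x v))
    (h : ∀ f : V →* ℂˣ, (∀ x v, f (a x v) = f v) → ∀ y v, f (b y v) = f v) :
    ∀ y v, b y v = v := by
  classical
  haveI := Fintype.ofFinite B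
  let U : Subgroup (V →* ℂˣ) :=
    { carrier := {f | ∀ v, ∏ y : B, f (b y v) = 1}
      one_mem' := fun v => by simp
      mul_mem' := fun {f g} hf hg v => by
        simp only [MonoidHom.mul_apply, Finset.prod_mul_distrib, hf v, hg v, mul_one]
      inv_mem' := fun {f} hf v => by
        simp only [MonoidHom.inv_apply, Finset.prod_inv_distrib, hf v, inv_one] }
  obtain ⟨k, hk⟩ := IsPGroup.iff_card.1 hV
  have hexp : ∀ (f : V →* ℂˣ) v, f v ^ p ^ k = 1 := fun f v => by
    rw [← map_pow, ← hk, pow_card_eq_one', map_one]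
  letI : MulAction A U :=
    { smul := fun x f => ⟨f.1.comp (a x⁻¹).toMonoidHom, fun v => by
        simpa only [MonoidHom.coe_comp, Function.comp_apply, MulEquiv.coe_toMonoidHom, hab] using
          f.2 (a x⁻¹ v)⟩
      one_smul := fun f => Subtype.ext (MonoidHom.ext fun v => by
        change f.1 (a (1 : A)⁻¹ v) = f.1 v
        simp)
      mul_smul := fun x z f => Subtype.ext (MonoidHom.ext fun v => by
        change f.1 (a (x * z)⁻¹ v) = f.1 (a z⁻¹ (a x⁻¹ v))
        simp) }
  have hfixone : ∀ f : U, f ∈ MulAction.fixedPoints A U → f = 1 := by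
    intro f hf
    have h1 : ∀ x v, f.1 (a x v) = f.1 v := fun x v => by
      have h2 := congrArg (fun z : U => z.1 v) (hf x⁻¹)
      change f.1 (a x⁻¹⁻¹ v) = f.1 v at h2
      simpa using h2
    refine Subtype.ext (MonoidHom.ext fun v => ?_)
    have h3 : f.1 v ^ Nat.card B = 1 := by
      rw [Nat.card_eq_fintype_card]
      have h4 := f.2 v
      rw [Finset.prod_congr rfl (fun y _ => h f.1 h1 y v), Finset.prod_const, Finset.card_univ] at h4
      exact h4
    have h5 : orderOf (f.1 v) = 1 :=
      Nat.eq_one_of_dvd_coprimes ((hp.out.coprime_iff_not_dvd.2 hB).pow_left k)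
        (orderOf_dvd_of_pow_eq_one (hexp f.1 v)) (orderOf_dvd_of_pow_eq_one h3)
    exact orderOf_eq_one_iff.1 h5
  have hUone : ∀ f : U, f = 1 := by
    by_contra hne
    push Not at hne
    obtain ⟨f, hf⟩ := hne
    haveI : Nontrivial U := ⟨⟨f, 1, hf⟩⟩
    have hUp : IsPGroup p U := fun g =>
      ⟨k, Subtype.ext (MonoidHom.ext fun v => by simpa using hexp g.1 v)⟩
    haveI : NeZero (p ^ k) := ⟨pow_ne_zero k hp.out.ne_zero⟩
    haveI : Finite U := Finite.of_injective
      (fun (f : U) (v : V) => (⟨f.1 v, hexp f.1 v⟩ : rootsOfUnity (p ^ k) ℂ))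
      (fun f g hfg => Subtype.ext (MonoidHom.ext fun v => congrArg Subtype.val (congrFun hfg v)))
    obtain ⟨n, hn⟩ := IsPGroup.iff_card.1 hUp
    have hn0 : n ≠ 0 := fun h0 => by
      have h1 := Finite.one_lt_card (α := U)
      simp [hn, h0] at h1
    obtain ⟨g, hg, hg1⟩ := hA.exists_fixed_point_of_prime_dvd_card_of_fixed_point U
      (hn ▸ dvd_pow_self p hn0) (a := (1 : U)) (fun x => Subtype.ext (MonoidHom.ext fun v => rfl))
    exact hg1 (hfixone g hg).symm
  intro y₀ v
  haveI : NeZero ((Monoid.exponent V : ℕ) : ℂ) :=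
    ⟨Nat.cast_ne_zero.2 (Monoid.exponent_ne_zero_of_finite)⟩
  by_contra hne
  obtain ⟨f, hf⟩ := CommGroup.exists_apply_ne_one_of_hasEnoughRootsOfUnity V ℂ
    (a := v / b y₀ v) (fun h1 => hne (div_eq_one.1 h1).symm)
  apply hf
  have hg : f / f.comp (b y₀).toMonoidHom ∈ U := fun w => by
    simp only [MonoidHom.div_apply, MonoidHom.coe_comp, MulEquiv.coe_toMonoidHom,
      Function.comp_apply, Finset.prod_div_distrib]
    rw [div_eq_one]
    refine (Fintype.prod_equiv (Equiv.mulLeft y₀) _ _ fun y => ?_).symm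
    simp
  have h2 := congrArg (fun z : U => z.1 v) (hUone ⟨_, hg⟩)
  simpa using h2

end CfsgLib.CrossDegrees
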