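import Cfsg.Agent.Lib.CrossDegrees.Normalizer
import Cfsg.Agent.Lib.CrossDegrees.Dual
import Cfsg.Agent.Lib.Coprime.SchurZassenhaus
import Cfsg.Agent.Lib.Blocks.SingleBlock
import Cfsg.Agent.Lib.Blocks.PrincipalSq
import Cfsg.Agent.Lib.Solvable.MinNormal
import Cfsg.Agent.S4736

/-!
# Cross-coprime degrees in two principal blocks
-/

set_option autoImplicit false
set_option linter.style.haveILetI false
set_option linter.unusedSectionVars false
set_option linter.unusedFintypeInType false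

namespace CfsgLib.CrossDegrees

open Cfsg
open CfsgLib.Characters
open CfsgLib.CharCorr (mult mult_spec)

universe u
variable {G : Type u} [Group G] {p q : ℕ}

/-- A `q`-subgroup centralizing a Sylow `p`-subgroup of a `p`-solvable group lies in
`O_{p'}`. -/
theorem sylow_le_pPrimeCore [Finite G] [hp : Fact p.Prime] [hq : Fact q.Prime] (hpq : p ≠ q)
    (hps : IsPSolvable p G) (P : Sylow p G) (Q : Sylow q G)
    (hcomm : ∀ x ∈ (P : Subgroup G), ∀ y ∈ (Q : Subgroup G), x * y = y * x) :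
    (Q : Subgroup G) ≤ pPrimeCore p G := by
  intro y hy
  set N := pPrimeCore p G
  set π := QuotientGroup.mk' N
  have hsurj : Function.Surjective π := QuotientGroup.mk'_surjective N
  have hHH := CfsgLib.PCore.centralizer_pCore_le (CfsgLib.PCore.isPSolvable_quotient hps N)
    CfsgLib.PCore.pPrimeCore_quotient_pPrimeCore
  have hmem : π y ∈ pCore p (G ⧸ N) := hHH (Subgroup.mem_centralizer_iff.2 fun z hz => by
    obtain ⟨x, hx, rfl⟩ := CfsgLib.PCore.pCore_le_sylow (P.mapSurjective hsurj) hz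
    rw [← map_mul, ← map_mul, hcomm x hx y hy])
  obtain ⟨i, hi⟩ := IsPGroup.iff_orderOf.1 (CfsgLib.PCore.pCore_isPGroup (p := p)) ⟨_, hmem⟩
  obtain ⟨j, hj⟩ := IsPGroup.iff_orderOf.1 Q.isPGroup' ⟨y, hy⟩
  rw [Subgroup.orderOf_mk] at hi hj
  have h1 : orderOf (π y) = 1 :=
    Nat.eq_one_of_dvd_coprimes (((Nat.coprime_primes hp.out hq.out).2 hpq).pow i j)
      (hi ▸ dvd_rfl) (hj ▸ orderOf_map_dvd π y)
  exact (QuotientGroup.eq_one_iff y).1 (orderOf_eq_one_iff.1 h1)

/-- A group of order `q`-free has only trivial `q`-subgroups. -/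
theorem exists_commute_of_not_dvd [Finite G] [Fact p.Prime] [hq : Fact q.Prime]
    (h : ¬ q ∣ Nat.card G) :
    ∃ (P : Sylow p G) (Q : Sylow q G),
      ∀ x ∈ (P : Subgroup G), ∀ y ∈ (Q : Subgroup G), x * y = y * x := by
  obtain ⟨P⟩ : Nonempty (Sylow p G) := inferInstance
  obtain ⟨Q⟩ : Nonempty (Sylow q G) := inferInstance
  refine ⟨P, Q, fun x _ y hy => ?_⟩
  have h1 : Nat.card (Q : Subgroup G) = 1 := by
    rw [Q.card_eq_multiplicity, Nat.factorization_eq_zero_of_not_dvd h, pow_zero]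
  rw [Subgroup.card_eq_one.1 h1, Subgroup.mem_bot] at hy
  rw [hy, mul_one, one_mul]

/-- The core-free step: if every principal block character of `p'`-degree has `q'`-degree and
proper quotients have commuting Sylow subgroups, then `q` does not divide the order. -/
theorem not_dvd_card_of_core_free [Finite G] [hp : Fact p.Prime] [hq : Fact q.Prime] (hpq : p ≠ q)
    (hps : IsPSolvable p G) (hqs : IsPSolvable q G) (hO : pPrimeCore p G = ⊥)
    {M : Ideal AlgInt} (hM : IsPModular p M)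
    (hdeg : ∀ χ : IrrCharacter G, χ ∈ principalBlock M G → ¬ p ∣ charDegree (χ : G → ℂ) →
      ¬ q ∣ charDegree (χ : G → ℂ))
    (IH : ∀ N : Subgroup G, [N.Normal] → N ≠ ⊥ → ∃ (P : Sylow p (G ⧸ N)) (Q : Sylow q (G ⧸ N)),
      ∀ x ∈ (P : Subgroup (G ⧸ N)), ∀ y ∈ (Q : Subgroup (G ⧸ N)), x * y = y * x) :
    ¬ q ∣ Nat.card G := by
  classical
  haveI := Fintype.ofFinite G
  rcases subsingleton_or_nontrivial G with hG | hG
  · rw [Nat.card_unique]; exact hq.out.not_dvd_one
  have hC := CfsgLib.PCore.centralizer_pCore_le hps hO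
  have huniv := CfsgLib.SingleBlock.principalBlock_eq_univ hM (pCore p G)
    CfsgLib.PCore.pCore_isPGroup hC
  have hdeg' : ∀ χ : IrrCharacter G, ¬ p ∣ charDegree (χ : G → ℂ) →
      ¬ q ∣ charDegree (χ : G → ℂ) := fun χ => hdeg χ (huniv ▸ Set.mem_univ χ)
  -- an abelian minimal normal `p`-subgroup
  have hZne : pCore p G ⊓ Subgroup.centralizer (pCore p G : Set G) ≠ ⊥ := by
    haveI : Nontrivial (pCore p G) :=
      (Subgroup.nontrivial_iff_ne_bot _).2 (CfsgLib.PCore.pCore_ne_bot hps hO)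
    haveI := (CfsgLib.PCore.pCore_isPGroup (G := G) (p := p)).center_nontrivial
    obtain ⟨z, hz⟩ := exists_ne (1 : Subgroup.center (pCore p G))
    intro h0
    refine hz (Subtype.ext (Subtype.ext (Subgroup.mem_bot.1 (h0 ▸ ⟨z.1.2, ?_⟩))))
    exact Subgroup.mem_centralizer_iff.2 fun x hx =>
      congrArg Subtype.val (Subgroup.mem_center_iff.1 z.2 ⟨x, hx⟩)
  obtain ⟨V, hVmin, hVle⟩ := CfsgLib.MinNormal.exists_isMinNormal_le inferInstance hZne
  haveI hVn : V.Normal := hVmin.1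
  haveI := Fintype.ofFinite V
  have hVp : IsPGroup p V := CfsgLib.PCore.pCore_isPGroup.to_le (hVle.trans inf_le_left)
  have hVab : ∀ a ∈ V, ∀ b ∈ V, a * b = b * a := fun a ha b hb =>
    Subgroup.mem_centralizer_iff.1 (hVle hb).2 a (hVle ha).1
  obtain ⟨Pb, Qb, hcomm⟩ := IH V hVmin.2.1
  set π := QuotientGroup.mk' V with hπ
  have hsurj : Function.Surjective π := QuotientGroup.mk'_surjective V
  obtain ⟨kV, hkV⟩ := IsPGroup.iff_card.1 hVp
  have hqV : ¬ q ∣ Nat.card V := fun h => hpq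
    ((Nat.prime_dvd_prime_iff_eq hq.out hp.out).1 (hq.out.dvd_of_dvd_pow (hkV ▸ h))).symm
  by_cases hQb : (Qb : Subgroup (G ⧸ V)) = ⊥
  · intro hd
    rw [V.card_eq_card_quotient_mul_card_subgroup] at hd
    rcases hq.out.dvd_mul.1 hd with h | h
    · have h1 : q ∣ Nat.card (Qb : Subgroup (G ⧸ V)) := by
        rw [Qb.card_eq_multiplicity]
        exact dvd_pow_self q (hq.out.factorization_pos_of_dvd Nat.card_pos.ne' h).ne'
      rw [hQb, Subgroup.card_bot] at h1
      exact hq.out.not_dvd_one h1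
    · exact hqV h
  exfalso
  set Rb := pPrimeCore p (G ⧸ V) with hRbdef
  have hQbR : (Qb : Subgroup (G ⧸ V)) ≤ Rb :=
    sylow_le_pPrimeCore hpq (CfsgLib.PCore.isPSolvable_quotient hps V) Pb Qb hcomm
  have hpRb : ¬ p ∣ Nat.card Rb := CfsgLib.PCore.not_dvd_card_pPrimeCore
  have hqRb : ¬ q ∣ Rb.index := fun h =>
    Qb.not_dvd_index (h.trans (Subgroup.index_dvd_of_le hQbR))
  -- a complement of `V` in the preimage of `Rb`
  set K := Rb.comap π with hKdef
  have hKn : K.Normal := inferInstanceAs ((Rb.comap π).Normal)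
  have hVK : V ≤ K := fun v hv => by
    rw [hKdef, Subgroup.mem_comap, hπ, QuotientGroup.mk'_apply, (QuotientGroup.eq_one_iff v).2 hv]
    exact Rb.one_mem
  have hKcard : Nat.card K = Nat.card V * Nat.card Rb := CfsgLib.PCore.card_comap_mk' V Rb
  let V' : Subgroup K := V.subgroupOf K
  haveI : V'.Normal := hVn.subgroupOf K
  have hV'card : Nat.card V' = Nat.card V := Nat.card_congr (Subgroup.subgroupOfEquivOfLe hVK).toEquiv
  have hV'idx : V'.index = Nat.card Rb := by
    have h1 := V'.card_mul_index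
    rw [hV'card, hKcard] at h1
    exact mul_left_cancel₀ Nat.card_pos.ne' h1
  have hcopVR : (Nat.card V).Coprime (Nat.card Rb) :=
    hkV ▸ (hp.out.coprime_iff_not_dvd.2 hpRb).pow_left kV
  obtain ⟨R', hR'⟩ := Subgroup.exists_right_complement'_of_coprime (N := V')
    (by rw [hV'card, hV'idx]; exact hcopVR)
  set R : Subgroup G := R'.map K.subtype with hRdef
  have hR'card : Nat.card R' = V'.index := hR'.symm.index_eq_card.symm
  have hRcard : Nat.card R = Nat.card Rb := by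
    rw [hRdef, Subgroup.card_map_of_injective K.subtype_injective, hR'card, hV'idx]
  have hRK : R ≤ K := Subgroup.map_subtype_le _
  have hRV : ∀ x ∈ R, x ∈ V → x = 1 := by
    rintro _ ⟨r, hr, rfl⟩ hV'
    have : r ∈ (V' ⊓ R' : Subgroup K) := ⟨hV', hr⟩
    rw [hR'.disjoint.eq_bot, Subgroup.mem_bot] at this
    rw [this]; rfl
  have hKdec : ∀ k ∈ K, ∃ v ∈ V, ∃ r ∈ R, k = v * r := by
    intro k hk
    have h1 : (⟨k, hk⟩ : K) ∈ V' ⊔ R' := by rw [hR'.sup_eq_top]; trivial
    obtain ⟨v, hv, r, hr, he⟩ := Subgroup.mem_sup_of_normal_left.1 h1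
    exact ⟨v, hv, r, Subgroup.mem_map_of_mem _ hr, (congrArg Subtype.val he).symm⟩
  set X := Subgroup.normalizer (R : Set G) with hXdef
  have hGX : ∀ g : G, ∃ v ∈ V, v * g ∈ X := by
    intro g
    let R₂ : Subgroup K := (cj g R).subgroupOf K
    have hle : cj g R ≤ K := cj_le fun x hx => hKn.conj_mem x (hRK hx) g
    have hR₂ : Nat.card R₂ = V'.index := by
      rw [Nat.card_congr (Subgroup.subgroupOfEquivOfLe hle).toEquiv, card_cj, hRcard, hV'idx]
    have hsolV : Group.IsSolvable V' := by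
      haveI := (hVp.of_equiv (Subgroup.subgroupOfEquivOfLe hVK).symm).isNilpotent
      infer_instance
    obtain ⟨x, hx, he⟩ := CfsgLib.Coprime.conj_complement _ le_rfl V'
      (by rw [hV'card, hV'idx]; exact hcopVR) R₂ R' hR₂ hR'card (Or.inl hsolV)
    refine ⟨x, hx, CfsgLib.Coprime.mem_normalizer_of_forall_conj fun r hr => ?_⟩
    have hgr : g * r * g⁻¹ ∈ K := hKn.conj_mem r (hRK hr) g
    have h1 : (⟨g * r * g⁻¹, hgr⟩ : K) ∈ R₂ := mem_cj_conj hr
    have h2 : x * ⟨g * r * g⁻¹, hgr⟩ * x⁻¹ ∈ R' := by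
      rw [← he, CfsgLib.Coprime.mem_conj_smul]
      simpa [mul_assoc] using h1
    have h3 := Subgroup.mem_map_of_mem K.subtype h2
    have e : (x : G) * g * r * ((x : G) * g)⁻¹ = (x : G) * (g * r * g⁻¹) * (x : G)⁻¹ := by group
    rw [e]
    exact h3
  have hXR : ∀ h ∈ X, ∀ r ∈ R, h * r * h⁻¹ ∈ R := fun h hh r hr =>
    (Subgroup.mem_normalizer_iff.1 hh r).1 hr
  have hXR' : ∀ h ∈ X, ∀ r ∈ R, h⁻¹ * r * h ∈ R := fun h hh r hr => by
    simpa [mul_assoc] using hXR h⁻¹ (X.inv_mem hh) r hr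
  -- fixed points of `R` on `V`
  have hWn : (V ⊓ Subgroup.centralizer (R : Set G)).Normal := ⟨fun n hn g => by
    obtain ⟨v, hv, hh⟩ := hGX g
    have h1 : v * g * n * (v * g)⁻¹ ∈ V := hVn.conj_mem n hn.1 _
    have h2 : v * g * n * (v * g)⁻¹ ∈ Subgroup.centralizer (R : Set G) :=
      Subgroup.mem_centralizer_iff.2 fun r hr => by
        have h3 := Subgroup.mem_centralizer_iff.1 hn.2 _ (hXR' _ hh r hr)
        calc r * (v * g * n * (v * g)⁻¹)
            = v * g * (((v * g)⁻¹ * r * (v * g)) * n) * (v * g)⁻¹ := by group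
          _ = v * g * (n * ((v * g)⁻¹ * r * (v * g))) * (v * g)⁻¹ := by rw [h3]
          _ = _ := by group
    have e : g * n * g⁻¹ = v * g * n * (v * g)⁻¹ := by
      have h4 := hVab v⁻¹ (V.inv_mem hv) _ h1
      calc g * n * g⁻¹ = v⁻¹ * (v * g * n * (v * g)⁻¹) * v := by group
        _ = (v * g * n * (v * g)⁻¹) * v⁻¹ * v := by rw [h4]
        _ = _ := by group
    rw [e]
    exact ⟨h1, h2⟩⟩
  -- a normal `p'`-subgroup is trivial
  have hkill : ∀ L : Subgroup G, L ≤ R → (∀ g : G, ∀ r ∈ L, g * r * g⁻¹ ∈ L) → L = ⊥ := by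
    intro L hL hLn
    have hle := CfsgLib.PCore.le_pPrimeCore_of_not_dvd (p := p) (N := L) ⟨fun n hn g => hLn g n hn⟩
      (fun h => hpRb (hRcard ▸ h.trans (Subgroup.card_dvd_of_le hL)))
    rwa [hO, le_bot_iff] at hle
  have hVX : ∀ v ∈ V, v ∈ X → v = 1 := by
    rcases hVmin.2.2 _ hWn inf_le_left with hW | hW
    · intro v hv hvX
      refine Subgroup.mem_bot.1 (hW ▸ ⟨hv, Subgroup.mem_centralizer_iff.2 fun r hr => ?_⟩)
      have h1 : v * r * v⁻¹ * r⁻¹ ∈ V := by
        rw [show v * r * v⁻¹ * r⁻¹ = v * (r * v⁻¹ * r⁻¹) by group]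
        exact V.mul_mem hv (hVn.conj_mem _ (V.inv_mem hv) r)
      have h2 : v * r * v⁻¹ * r⁻¹ ∈ R := R.mul_mem (hXR v hvX r hr) (R.inv_mem hr)
      exact ((mul_inv_eq_iff_eq_mul.1 (mul_inv_eq_one.1 (hRV _ h2 h1))).symm)
    · exfalso
      have hcent : ∀ v ∈ V, ∀ r ∈ R, r * v = v * r := fun v hv r hr =>
        Subgroup.mem_centralizer_iff.1 (hW.symm ▸ hv : v ∈ V ⊓ Subgroup.centralizer (R : Set G)).2 r hr
      have hR0 : R = ⊥ := hkill R le_rfl fun g r hr => by
        obtain ⟨v, hv, hh⟩ := hGX g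
        have h1 := hXR _ hh r hr
        have e : g * r * g⁻¹ = v * g * r * (v * g)⁻¹ := by
          have h4 := hcent v⁻¹ (V.inv_mem hv) _ h1
          calc g * r * g⁻¹ = v⁻¹ * (v * g * r * (v * g)⁻¹) * v := by group
            _ = (v * g * r * (v * g)⁻¹) * v⁻¹ * v := by rw [h4]
            _ = _ := by group
        rwa [e]
      have h1 : Nat.card Rb = 1 := by rw [← hRcard, hR0, Subgroup.card_bot]
      exact hQb (le_bot_iff.1 (Subgroup.card_eq_one.1 h1 ▸ hQbR))
  -- the section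
  let ρ : X →* G ⧸ V := π.comp X.subtype
  have hρ : Function.Bijective ρ := by
    constructor
    · rw [injective_iff_map_eq_one]
      exact fun x hx => Subtype.ext (hVX x ((QuotientGroup.eq_one_iff (x : G)).1 hx) x.2)
    · intro a
      obtain ⟨g, rfl⟩ := hsurj a
      obtain ⟨v, hv, hh⟩ := hGX g
      refine ⟨⟨v * g, hh⟩, ?_⟩
      change π (v * g) = π g
      rw [map_mul, show π v = 1 from (QuotientGroup.eq_one_iff v).2 hv, one_mul]
  let e := MulEquiv.ofBijective ρ hρ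
  let sec : G ⧸ V →* G := X.subtype.comp e.symm.toMonoidHom
  have hsec : ∀ a, π (sec a) = a := fun a => e.apply_symm_apply a
  have hsecX : ∀ a, sec a ∈ X := fun a => (e.symm a).2
  have hsecI : Function.Injective sec := fun a b h => by rw [← hsec a, h, hsec b]
  have hsecπ : ∀ g ∈ X, sec (π g) = g := fun g hg => congrArg Subtype.val (e.symm_apply_apply ⟨g, hg⟩)
  have hsecR : ∀ a ∈ Rb, sec a ∈ R := by
    intro a ha
    have hK' : sec a ∈ K := by rw [hKdef, Subgroup.mem_comap, hsec]; exact ha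
    obtain ⟨v, hv, r, hr, he⟩ := hKdec _ hK'
    have hvX : v ∈ X := by
      rw [show v = sec a * r⁻¹ by rw [he, mul_inv_cancel_right]]
      exact X.mul_mem (hsecX a) (X.inv_mem (Subgroup.le_normalizer hr))
    rwa [he, hVX v hv hvX, one_mul]
  have hRπ : ∀ r ∈ R, π r ∈ Rb := fun r hr => by
    have := hRK hr
    rwa [hKdef, Subgroup.mem_comap] at this
  set P₀ := (Pb : Subgroup (G ⧸ V)).map sec with hP₀def
  set Q₀ := (Qb : Subgroup (G ⧸ V)).map sec with hQ₀def
  have hP₀p : IsPGroup p P₀ := Pb.isPGroup'.map sec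
  have hQ₀R : Q₀ ≤ R := by
    rintro _ ⟨a, ha, rfl⟩
    exact hsecR a (hQbR ha)
  have hPQ₀ : P₀ ≤ Subgroup.normalizer (Q₀ : Set G) := le_normalizer_of_commute (by
    rintro _ ⟨a, ha, rfl⟩ _ ⟨b, hb, rfl⟩
    rw [← map_mul, ← map_mul, hcomm a ha b hb])
  have hP₀R : P₀ ≤ Subgroup.normalizer (R : Set G) := by
    rintro _ ⟨a, -, rfl⟩
    exact hsecX a
  -- `C_R(P₀)` normalizes `Q₀`
  have hnorm : ∀ c ∈ R, c ∈ Subgroup.centralizer (P₀ : Set G) → cj c Q₀ = Q₀ := by
    intro c hcR hcC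
    have hcC' : π c ∈ Subgroup.centralizer ((Pb : Subgroup (G ⧸ V)) : Set (G ⧸ V)) :=
      Subgroup.mem_centralizer_iff.2 fun a ha => by
        have := congrArg π (Subgroup.mem_centralizer_iff.1 hcC _ (Subgroup.mem_map_of_mem sec ha))
        rwa [map_mul, map_mul, hsec] at this
    refine Subgroup.eq_of_le_of_card_ge (cj_le ?_) (card_cj c Q₀).symm.le
    rintro _ ⟨a, ha, rfl⟩
    have hdegV : ∀ χ : IrrCharacter (G ⧸ V), ¬ p ∣ charDegree (χ : G ⧸ V → ℂ) →
        ¬ q ∣ charDegree (χ : G ⧸ V → ℂ) := fun χ hχ => by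
      let χ' : IrrCharacter G := ⟨_, CfsgLib.Clifford.isIrrCharacter_pullback χ.2 π hsurj⟩
      have e' : charDegree (χ' : G → ℂ) = charDegree (χ : G ⧸ V → ℂ) := by simp [charDegree, χ']
      exact e' ▸ hdeg' χ' (e' ▸ hχ)
    have h := normalizes (p := p) (q := q) (Nat.card (G ⧸ V)) le_rfl
      (CfsgLib.PCore.isPSolvable_quotient hqs V) hpq Rb inferInstance hpRb hqRb Pb Qb hcomm hdegV
      (π c) (hRπ c hcR) hcC' a ha
    refine ⟨π c * a * (π c)⁻¹, h, ?_⟩
    rw [map_mul, map_mul, map_inv, hsecπ c (Subgroup.le_normalizer hcR)]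
  -- every `P₀`-invariant linear character of `V` is `Q₀`-invariant
  have hfixV : ∀ f : V →* ℂˣ,
      (∀ a ∈ (Pb : Subgroup (G ⧸ V)), ∀ v : V,
        f ⟨sec a * v * (sec a)⁻¹, hVn.conj_mem (v : G) v.2 _⟩ = f v) →
      ∀ a ∈ (Qb : Subgroup (G ⧸ V)), ∀ v : V,
        f ⟨sec a * v * (sec a)⁻¹, hVn.conj_mem (v : G) v.2 _⟩ = f v := by
    intro f hf
    set P := (Pb : Subgroup (G ⧸ V)).comap π with hPdef
    haveI := Fintype.ofFinite P
    have hσ : ∀ g : G, g * (sec (π g))⁻¹ ∈ V := fun g =>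
      (QuotientGroup.eq_one_iff _).1 (by
        change π (g * (sec (π g))⁻¹) = 1
        rw [map_mul, map_inv, hsec, mul_inv_cancel])
    let μ : P →* ℂˣ :=
      { toFun := fun g => f ⟨(g : G) * (sec (π g))⁻¹, hσ g⟩
        map_one' := by
          rw [← map_one f]
          exact congrArg f (Subtype.ext (by simp))
        map_mul' := fun g h => by
          rw [← hf (π g) g.2 ⟨(h : G) * (sec (π h))⁻¹, hσ h⟩, ← map_mul]
          refine congrArg f (Subtype.ext ?_)
          simp only [Subgroup.coe_mul, map_mul, mul_inv_rev]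
          group }
    have hμV : ∀ (v : V) (hv : (v : G) ∈ P), μ ⟨v, hv⟩ = f v := fun v hv => by
      refine congrArg f (Subtype.ext ?_)
      change (v : G) * (sec (π v))⁻¹ = v
      rw [show π v = 1 from (QuotientGroup.eq_one_iff (v : G)).2 v.2, map_one, inv_one, mul_one]
    let ψ : IrrCharacter P := ⟨fun g => (μ g : ℂ), isIrrCharacter_of_hom μ⟩
    have hψd : charDegree (ψ : P → ℂ) = 1 := by
      have h1 := CfsgLib.CharCorr.irr_one_eq_charDegree ψ
      rw [show (ψ : P → ℂ) 1 = 1 by simp [ψ]] at h1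
      exact_mod_cast h1.symm
    have hPidx : ¬ p ∣ P.index := by
      rw [hPdef, Subgroup.index_comap_of_surjective _ hsurj]
      exact Pb.not_dvd_index
    obtain ⟨χ, hχd, hχ⟩ := exists_over P ψ (hψd ▸ hp.out.not_dvd_one) hPidx hp.out
    let φ : IrrCharacter V := ⟨fun v => (f v : ℂ), isIrrCharacter_of_hom f⟩
    have hVP : V ≤ P := fun v hv => by
      rw [hPdef, Subgroup.mem_comap, show π v = 1 from (QuotientGroup.eq_one_iff v).2 hv]
      exact one_mem _
    let i : V →* P := Subgroup.inclusion hVP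
    have hres : ((ψ : P → ℂ) ∘ i) = (φ : V → ℂ) :=
      funext fun v => congrArg Units.val (hμV v (hVP v.2))
    have h1 : mult i ψ φ = 1 := CfsgLib.CharCorr.mult_eq_of_classInner_eq _ _ _ (by
      rw [hres, classInner_irr_self φ.2, Nat.cast_one])
    have h2 := CfsgLib.CharCorrQ.mult_mul_le_comp P.subtype i χ ψ φ
    rw [h1, mul_one] at h2
    have hne : mult V.subtype χ φ ≠ 0 := fun h0 => hχ (Nat.le_zero.1 (h0 ▸ h2))
    have hqI := not_dvd_index_inertia V χ (hdeg' χ hχd) φ hne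
    set I := CfsgLib.Clifford.inertia hVn (φ : V → ℂ) with hI
    have hfI : ∀ g : G,
        g ∈ I ↔ ∀ v : V, f ⟨g * v * g⁻¹, hVn.conj_mem (v : G) v.2 g⟩ = f v := fun g =>
      CfsgLib.Clifford.mem_inertia.trans
        ⟨fun h v => Units.ext (h v), fun h v => congrArg Units.val (h v)⟩
    have hP₀I : P₀ ≤ I := by
      rintro _ ⟨a, ha, rfl⟩
      exact (hfI _).2 (hf a ha)
    have hVI : V ≤ I := CfsgLib.Clifford.le_inertia hVn (irr_isClassFunction φ)
    -- a full `q`-subgroup in `R ⊓ I`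
    have hqK : ¬ q ∣ K.index := by
      rw [hKdef, Subgroup.index_comap_of_surjective _ hsurj]; exact hqRb
    obtain ⟨S⟩ : Nonempty (Sylow q I) := inferInstance
    have hScard : Nat.card ((S : Subgroup I).map I.subtype) = q ^ (Nat.card G).factorization q := by
      rw [Subgroup.card_map_of_injective I.subtype_injective, S.card_eq_multiplicity,
        ← I.card_mul_index, Nat.factorization_mul Nat.card_pos.ne' Subgroup.index_ne_zero_of_finite,
        Finsupp.add_apply, Nat.factorization_eq_zero_of_not_dvd hqI, add_zero]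
    set R₀ := R ⊓ I with hR₀def
    have hKI : K ⊓ I ≤ V ⊔ R₀ := by
      rintro k ⟨hk, hkI⟩
      obtain ⟨v, hv, r, hr, rfl⟩ := hKdec k hk
      refine (V ⊔ R₀).mul_mem (Subgroup.mem_sup_left hv) (Subgroup.mem_sup_right ⟨hr, ?_⟩)
      simpa using I.mul_mem (I.inv_mem (hVI hv)) hkI
    have hfull : q ^ (Nat.card G).factorization q ∣ Nat.card R₀ := by
      have h3 : q ^ (Nat.card G).factorization q ∣ Nat.card V * Nat.card R₀ := by
        haveI := hKn
        have hle : (S : Subgroup I).map I.subtype ≤ V ⊔ R₀ :=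
          le_trans (le_inf (le_of_isPGroup_of_not_dvd_index (S.isPGroup'.map _) hqK)
            (Subgroup.map_subtype_le _)) hKI
        rw [← hScard]
        exact (Subgroup.card_dvd_of_le hle).trans (CfsgLib.PCore.card_sup_dvd_mul V R₀)
      exact Nat.Coprime.dvd_of_dvd_mul_left ((hq.out.coprime_iff_not_dvd.2 hqV).pow_left _) h3
    have hfactR : ∀ L : Subgroup G, R₀ ≤ L →
        (Nat.card L).factorization q = (Nat.card G).factorization q := fun L hL =>
      le_antisymm ((Nat.factorization_le_iff_dvd Nat.card_pos.ne' Nat.card_pos.ne').2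
        (Subgroup.card_subgroup_dvd_card L) q)
        ((hq.out.pow_dvd_iff_le_factorization Nat.card_pos.ne').1
          (hfull.trans (Subgroup.card_dvd_of_le hL)))
    have hP₀n : P₀ ≤ Subgroup.normalizer (R₀ : Set G) := fun u hu =>
      CfsgLib.Coprime.mem_normalizer_of_forall_conj fun r hr =>
        ⟨hXR u (hP₀R hu) r hr.1, I.mul_mem (I.mul_mem (hP₀I hu) hr.2) (I.inv_mem (hP₀I hu))⟩
    have hpR₀ : ¬ p ∣ Nat.card R₀ := fun h =>
      hpRb (hRcard ▸ h.trans (Subgroup.card_dvd_of_le inf_le_left))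
    obtain ⟨a₀, ha₀⟩ := IsPGroup.iff_card.1 hP₀p
    haveI := hP₀p.isNilpotent
    obtain ⟨S₁, hS₁⟩ := CfsgLib.Coprime.exists_invariant_sylow P₀ R₀ hP₀n
      (ha₀ ▸ (hp.out.coprime_iff_not_dvd.2 hpR₀).pow_left a₀) (Or.inl inferInstance) q
    have hS₁c : Nat.card ((S₁ : Subgroup R₀).map R₀.subtype) = q ^ (Nat.card R).factorization q := by
      rw [Subgroup.card_map_of_injective R₀.subtype_injective, S₁.card_eq_multiplicity,
        hfactR R₀ le_rfl, hfactR R inf_le_left]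
    have hQ₀c : Nat.card Q₀ = q ^ (Nat.card R).factorization q := by
      rw [hQ₀def, Subgroup.card_map_of_injective hsecI, Qb.card_eq_multiplicity,
        hfactR R inf_le_left, V.card_eq_card_quotient_mul_card_subgroup,
        Nat.factorization_mul Nat.card_pos.ne' Nat.card_pos.ne', Finsupp.add_apply,
        Nat.factorization_eq_zero_of_not_dvd hqV, add_zero]
    obtain ⟨k, ⟨hkR, hkC⟩, hk⟩ := exists_conj (p := p) (q := q) P₀ R hP₀p hP₀R (hRcard ▸ hpRb) Q₀
      ((S₁ : Subgroup R₀).map R₀.subtype) hQ₀R ((Subgroup.map_subtype_le _).trans inf_le_left)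
      hQ₀c hS₁c hPQ₀ hS₁
    rw [hnorm k hkR hkC] at hk
    intro a ha
    have hmem : sec a ∈ I := by
      have : sec a ∈ (S₁ : Subgroup R₀).map R₀.subtype := hk ▸ Subgroup.mem_map_of_mem sec ha
      exact ((Subgroup.map_subtype_le _).trans inf_le_right : _ ≤ I) this
    exact (hfI _).1 hmem
  -- so `Q₀` centralizes `V`
  letI : CommGroup V :=
    { (inferInstance : Group V) with mul_comm := fun a b => Subtype.ext (hVab a a.2 b b.2) }
  let act : G ⧸ V →* MulAut V := (MulAut.conjNormal (H := V)).comp sec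
  have hact : ∀ a (v : V), act a v = ⟨sec a * v * (sec a)⁻¹, hVn.conj_mem (v : G) v.2 _⟩ :=
    fun a v => Subtype.ext rfl
  obtain ⟨kQ, hkQ⟩ := IsPGroup.iff_card.1 Qb.isPGroup'
  have hfixall := fixed_all (p := p) hVp Pb.isPGroup'
    (fun h => hpq ((Nat.prime_dvd_prime_iff_eq hp.out hq.out).1 (hp.out.dvd_of_dvd_pow (hkQ ▸ h))))
    (act.comp (Pb : Subgroup (G ⧸ V)).subtype) (act.comp (Qb : Subgroup (G ⧸ V)).subtype)
    (fun x y v => by
      have h := congrArg (fun z => act z v) (hcomm x x.2 y y.2)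
      simpa [map_mul] using h)
    (fun f hf y v => by
      change f (act y v) = f v
      rw [hact]
      refine hfixV f (fun a ha w => ?_) y y.2 v
      rw [← hact]
      exact hf ⟨a, ha⟩ w)
  set L := R ⊓ Subgroup.centralizer (V : Set G) with hL
  have hL0 : L = ⊥ := hkill L inf_le_left fun g r hr => by
    obtain ⟨v, hv, hh⟩ := hGX g
    have h1 : v * g * r * (v * g)⁻¹ ∈ Subgroup.centralizer (V : Set G) :=
      (inferInstance : (Subgroup.centralizer (V : Set G)).Normal).conj_mem r hr.2 _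
    have e : g * r * g⁻¹ = v * g * r * (v * g)⁻¹ := by
      have h4 := Subgroup.mem_centralizer_iff.1 h1 _ (V.inv_mem hv)
      calc g * r * g⁻¹ = v⁻¹ * (v * g * r * (v * g)⁻¹) * v := by group
        _ = (v * g * r * (v * g)⁻¹) * v⁻¹ * v := by rw [h4]
        _ = _ := by group
    rw [e]
    exact ⟨hXR _ hh r hr.1, h1⟩
  refine hQb ((Subgroup.eq_bot_iff_forall _).2 fun a ha => hsecI ?_)
  have hmem : sec a ∈ L := ⟨hsecR a (hQbR ha), Subgroup.mem_centralizer_iff.2 fun v hv => by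
    have h := hfixall ⟨a, ha⟩ ⟨v, hv⟩
    change act a ⟨v, hv⟩ = ⟨v, hv⟩ at h
    rw [hact] at h
    exact (mul_inv_eq_iff_eq_mul.1 (congrArg Subtype.val h)).symm⟩
  rw [hL0, Subgroup.mem_bot] at hmem
  rw [hmem, map_one]

/-- Cross-coprime degrees in the principal blocks force commuting Sylow subgroups. -/
theorem exists_commute (n : ℕ) : ∀ {G : Type u} [Group G] [Finite G] [Fact p.Prime] [Fact q.Prime],
    Nat.card G ≤ n → p ≠ q → IsPSolvable p G → IsPSolvable q G →
    ∀ (Mp Mq : Ideal AlgInt), IsPModular p Mp → IsPModular q Mq →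
    (∀ χ : IrrCharacter G, χ ∈ principalBlock Mp G → ¬ p ∣ charDegree (χ : G → ℂ) →
      ¬ q ∣ charDegree (χ : G → ℂ)) →
    (∀ χ : IrrCharacter G, χ ∈ principalBlock Mq G → ¬ q ∣ charDegree (χ : G → ℂ) →
      ¬ p ∣ charDegree (χ : G → ℂ)) →
    ∃ (P : Sylow p G) (Q : Sylow q G),
      ∀ x ∈ (P : Subgroup G), ∀ y ∈ (Q : Subgroup G), x * y = y * x := by
  induction n with
  | zero =>
    intro G _ _ _ _ hcard
    exact absurd hcard (Nat.not_le.2 Nat.card_pos)
  | succ n ih =>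
  intro G _ _ hp hq hcard hpq hps hqs Mp Mq hMp hMq hdp hdq
  classical
  have IH : ∀ N : Subgroup G, [N.Normal] → N ≠ ⊥ →
      ∃ (P : Sylow p (G ⧸ N)) (Q : Sylow q (G ⧸ N)),
      ∀ x ∈ (P : Subgroup (G ⧸ N)), ∀ y ∈ (Q : Subgroup (G ⧸ N)), x * y = y * x := by
    intro N _ hN
    set π := QuotientGroup.mk' N
    have hsurj : Function.Surjective π := QuotientGroup.mk'_surjective N
    have hlt : Nat.card (G ⧸ N) ≤ n := by
      have h1 := N.card_eq_card_quotient_mul_card_subgroup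
      have h2 : 1 < Nat.card N := N.one_lt_card_iff_ne_bot.2 hN
      have h3 : 0 < Nat.card (G ⧸ N) := Nat.card_pos
      nlinarith
    refine ih hlt hpq (CfsgLib.PCore.isPSolvable_quotient hps N)
      (CfsgLib.PCore.isPSolvable_quotient hqs N) Mp Mq hMp hMq ?_ ?_
    all_goals
      intro χ hχ hd
      let χ' : IrrCharacter G := ⟨_, CfsgLib.Clifford.isIrrCharacter_pullback χ.2 π hsurj⟩
      have e : charDegree (χ' : G → ℂ) = charDegree (χ : G ⧸ N → ℂ) := by simp [charDegree, χ']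
      rw [← e] at hd ⊢
    · exact hdp χ' (Cfsg.Agent.S4736.inflation_mem hMp N χ hχ χ' fun g => rfl) hd
    · exact hdq χ' (Cfsg.Agent.S4736.inflation_mem hMq N χ hχ χ' fun g => rfl) hd
  by_cases h1 : pPrimeCore p G = ⊥
  · exact exists_commute_of_not_dvd (not_dvd_card_of_core_free hpq hps hqs h1 hMp hdp IH)
  by_cases h2 : pPrimeCore q G = ⊥
  · obtain ⟨Q, P, h⟩ := exists_commute_of_not_dvd (p := q) (q := p)
      (not_dvd_card_of_core_free (p := q) (q := p) hpq.symm hqs hps h2 hMq hdq fun N _ hN => by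
        obtain ⟨P, Q, h⟩ := IH N hN
        exact ⟨Q, P, fun x hx y hy => (h y hy x hx).symm⟩)
    exact ⟨P, Q, fun x hx y hy => (h y hy x hx).symm⟩
  -- both cores are nontrivial
  set N₁ := pPrimeCore p G with hN₁
  set N₂ := pPrimeCore q G with hN₂
  have hQN : ∀ Q : Sylow q G, (Q : Subgroup G) ≤ N₁ := by
    obtain ⟨P', Q', h⟩ := IH N₁ h1
    have h3 := sylow_le_pPrimeCore hpq (CfsgLib.PCore.isPSolvable_quotient hps N₁) P' Q' h
    rw [CfsgLib.PCore.pPrimeCore_quotient_pPrimeCore, le_bot_iff] at h3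
    intro Q
    refine le_of_isPGroup_of_not_dvd_index Q.isPGroup' ?_
    have h4 := Q'.not_dvd_index
    rwa [h3, Subgroup.index_bot, ← Subgroup.index_eq_card] at h4
  have hPN : ∀ P : Sylow p G, (P : Subgroup G) ≤ N₂ := by
    obtain ⟨P', Q', h⟩ := IH N₂ h2
    have h3 := sylow_le_pPrimeCore (p := q) (q := p) hpq.symm
      (CfsgLib.PCore.isPSolvable_quotient hqs N₂) Q' P' (fun x hx y hy => (h y hy x hx).symm)
    rw [CfsgLib.PCore.pPrimeCore_quotient_pPrimeCore, le_bot_iff] at h3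
    intro P
    refine le_of_isPGroup_of_not_dvd_index P.isPGroup' ?_
    have h4 := P'.not_dvd_index
    rwa [h3, Subgroup.index_bot, ← Subgroup.index_eq_card] at h4
  obtain ⟨P⟩ : Nonempty (Sylow p G) := inferInstance
  obtain ⟨a, ha⟩ := IsPGroup.iff_card.1 P.isPGroup'
  haveI := P.isPGroup'.isNilpotent
  obtain ⟨S, hS⟩ := CfsgLib.Coprime.exists_invariant_sylow (P : Subgroup G) N₁
    (fun u _ => by rw [Subgroup.normalizer_eq_top]; trivial)
    (ha ▸ (hp.out.coprime_iff_not_dvd.2 CfsgLib.PCore.not_dvd_card_pPrimeCore).pow_left a)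
    (Or.inl inferInstance) q
  obtain ⟨Q₀⟩ : Nonempty (Sylow q G) := inferInstance
  have hSc : Nat.card ((S : Subgroup N₁).map N₁.subtype) = q ^ (Nat.card G).factorization q := by
    rw [Subgroup.card_map_of_injective N₁.subtype_injective, S.card_eq_multiplicity]
    congr 1
    refine le_antisymm ((Nat.factorization_le_iff_dvd Nat.card_pos.ne' Nat.card_pos.ne').2
      (Subgroup.card_subgroup_dvd_card N₁) q) ?_
    rw [← hq.out.pow_dvd_iff_le_factorization Nat.card_pos.ne', ← Q₀.card_eq_multiplicity]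
    exact Subgroup.card_dvd_of_le (hQN Q₀)
  refine ⟨P, Sylow.ofCard _ hSc, fun x hx y hy => ?_⟩
  rw [Sylow.coe_ofCard] at hy
  have h3 : x * y * x⁻¹ * y⁻¹ ∈ N₂ := by
    rw [show x * y * x⁻¹ * y⁻¹ = x * (y * x⁻¹ * y⁻¹) by group]
    exact N₂.mul_mem (hPN P hx) ((inferInstance : N₂.Normal).conj_mem _ (N₂.inv_mem (hPN P hx)) y)
  have h4 : x * y * x⁻¹ * y⁻¹ ∈ (S : Subgroup N₁).map N₁.subtype :=
    mul_mem ((Subgroup.mem_normalizer_iff.1 (hS hx) y).1 hy) (inv_mem hy)
  have h5 := CfsgLib.PCore.inf_eq_bot_of_isPGroup_coprime (p := q) (S.isPGroup'.map N₁.subtype)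
    (CfsgLib.PCore.pPrimeCore_coprime (p := q) (G := G))
  have h6 : x * y * x⁻¹ * y⁻¹ ∈ (⊥ : Subgroup G) := h5 ▸ ⟨h4, h3⟩
  rw [Subgroup.mem_bot, mul_inv_eq_one, mul_inv_eq_iff_eq_mul] at h6
  exact h6

/-- Commuting Sylow subgroups: principal block characters have `q'`-degree. -/
theorem not_dvd_degree_of_commute [Finite G] [Fact p.Prime] [Fact q.Prime] (hpq : p ≠ q)
    (hps : IsPSolvable p G) {M : Ideal AlgInt} (hM : IsPModular p M) (P : Sylow p G) (Q : Sylow q G)
    (hcomm : ∀ x ∈ (P : Subgroup G), ∀ y ∈ (Q : Subgroup G), x * y = y * x)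
    (χ : IrrCharacter G) (hχ : χ ∈ principalBlock M G) : ¬ q ∣ charDegree (χ : G → ℂ) := by
  classical
  haveI := Fintype.ofFinite G
  set N := pPrimeCore p G
  obtain ⟨φ, hφ⟩ := Cfsg.Agent.S4736.exists_deflation N χ fun k hk =>
    CfsgLib.PrincipalSq.apply_eq_degree_of_coprime hM N CfsgLib.PCore.not_dvd_card_pPrimeCore χ hχ
      ⟨k, hk⟩
  have h1 := hφ 1
  rw [QuotientGroup.mk_one, CfsgLib.CharCorr.irr_one_eq_charDegree,
    CfsgLib.CharCorr.irr_one_eq_charDegree, Nat.cast_inj] at h1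
  intro hd
  have h2 : q ∣ N.index := by
    rw [Subgroup.index_eq_card]
    exact (h1 ▸ hd).trans (CfsgLib.CharCorr.charDegree_irr_dvd_card φ)
  exact Q.not_dvd_index
    (h2.trans (Subgroup.index_dvd_of_le (sylow_le_pPrimeCore hpq hps P Q hcomm)))

/-- A principal block character of `p'`-degree that is nontrivial on a Sylow `p`-subgroup. -/
theorem exists_nontrivial_on_sylow [Finite G] [hp : Fact p.Prime] (hps : IsPSolvable p G)
    {M : Ideal AlgInt} (hM : IsPModular p M) (hdvd : p ∣ Nat.card G) :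
    ∃ χ : IrrCharacter G, χ ∈ principalBlock M G ∧ ¬ p ∣ charDegree (χ : G → ℂ) ∧
      ∃ (P : Sylow p G), ∃ x ∈ (P : Subgroup G), (χ : G → ℂ) x ≠ (χ : G → ℂ) 1 := by
  classical
  haveI := Fintype.ofFinite G
  set N := pPrimeCore p G
  set π := QuotientGroup.mk' N
  have hsurj : Function.Surjective π := QuotientGroup.mk'_surjective N
  obtain ⟨P⟩ : Nonempty (Sylow p G) := inferInstance
  let Pq := P.mapSurjective hsurj
  haveI := Fintype.ofFinite (Pq : Subgroup (G ⧸ N))
  haveI : Nontrivial (Pq : Subgroup (G ⧸ N)) := by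
    refine (Subgroup.nontrivial_iff_ne_bot _).2 fun h0 => ?_
    have hle : (P : Subgroup G) ≤ N := fun x hx => (QuotientGroup.eq_one_iff x).1
      (Subgroup.mem_bot.1 (h0 ▸ (Subgroup.mem_map_of_mem π hx : π x ∈ (Pq : Subgroup (G ⧸ N)))))
    exact CfsgLib.PCore.not_dvd_card_pPrimeCore
      ((P.dvd_card_of_dvd_card hdvd).trans (Subgroup.card_dvd_of_le hle))
  -- a nontrivial linear character of the Sylow subgroup
  obtain ⟨f, x₀, hf⟩ : ∃ (f : (Pq : Subgroup (G ⧸ N)) →* ℂˣ) (x₀ : (Pq : Subgroup (G ⧸ N))),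
      f x₀ ≠ 1 := by
    haveI := Pq.isPGroup'.isNilpotent
    have hne : commutator (Pq : Subgroup (G ⧸ N)) ≠ ⊤ := (IsSolvable.commutator_lt_top_of_nontrivial _).ne
    haveI : Nontrivial (Abelianization (Pq : Subgroup (G ⧸ N))) :=
      QuotientGroup.nontrivial_iff.2 hne
    obtain ⟨a, ha⟩ := exists_ne (1 : Abelianization (Pq : Subgroup (G ⧸ N)))
    obtain ⟨x₀, rfl⟩ := QuotientGroup.mk_surjective a
    haveI : NeZero ((Monoid.exponent (Abelianization (Pq : Subgroup (G ⧸ N))) : ℕ) : ℂ) :=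
      ⟨Nat.cast_ne_zero.2 (Monoid.exponent_ne_zero_of_finite)⟩
    obtain ⟨g, hg⟩ := CommGroup.exists_apply_ne_one_of_hasEnoughRootsOfUnity _ ℂ ha
    exact ⟨g.comp Abelianization.of, x₀, hg⟩
  let ψ : IrrCharacter (Pq : Subgroup (G ⧸ N)) := ⟨fun g => (f g : ℂ), isIrrCharacter_of_hom f⟩
  have hψd : charDegree (ψ : ↥(Pq : Subgroup (G ⧸ N)) → ℂ) = 1 := by
    have h1 := CfsgLib.CharCorr.irr_one_eq_charDegree ψ
    rw [show (ψ : ↥(Pq : Subgroup (G ⧸ N)) → ℂ) 1 = 1 by simp [ψ]] at h1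
    exact_mod_cast h1.symm
  obtain ⟨η, hηd, hη⟩ := exists_over (Pq : Subgroup (G ⧸ N)) ψ (hψd ▸ hp.out.not_dvd_one)
    Pq.not_dvd_index hp.out
  have huniv := CfsgLib.SingleBlock.principalBlock_eq_univ hM (pCore p (G ⧸ N))
    CfsgLib.PCore.pCore_isPGroup (CfsgLib.PCore.centralizer_pCore_le
      (CfsgLib.PCore.isPSolvable_quotient hps N) CfsgLib.PCore.pPrimeCore_quotient_pPrimeCore)
  let χ : IrrCharacter G := ⟨_, CfsgLib.Clifford.isIrrCharacter_pullback η.2 π hsurj⟩
  refine ⟨χ, Cfsg.Agent.S4736.inflation_mem hM N η (huniv ▸ Set.mem_univ η) χ fun g => rfl, ?_,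
    P, ?_⟩
  · rwa [show charDegree (χ : G → ℂ) = charDegree (η : G ⧸ N → ℂ) by simp [charDegree, χ]]
  by_contra hcon
  push Not at hcon
  have hres : ((η : G ⧸ N → ℂ) ∘ (Pq : Subgroup (G ⧸ N)).subtype) =
      fun _ => (η : G ⧸ N → ℂ) 1 := funext fun y => by
    obtain ⟨y, z, hz, rfl⟩ := y
    simpa [χ] using hcon z hz
  apply hη
  refine CfsgLib.CharCorr.mult_eq_of_classInner_eq _ _ _ ?_
  rw [hres, Nat.cast_zero]
  have hone := classInner_irr_ne (isIrrCharacter_one (G := (Pq : Subgroup (G ⧸ N)))) ψ.2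
    (fun h => hf (Units.ext (congrFun h x₀).symm))
  rw [show (fun _ : (Pq : Subgroup (G ⧸ N)) => (η : G ⧸ N → ℂ) 1) =
      (η : G ⧸ N → ℂ) 1 • (fun _ : (Pq : Subgroup (G ⧸ N)) => (1 : ℂ)) from
    funext fun _ => by simp, classInner_smul_left, hone, mul_zero]

end CfsgLib.CrossDegrees
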