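import Cfsg.Agent.Lib.CrossDegrees.Basic
import Cfsg.Agent.Lib.Coprime.Action
import Cfsg.Agent.Lib.PCore.PSolvable
import Mathlib.GroupTheory.NoncommCoprod

/-!
# Degrees prime to `q` and the centralizer of a Sylow `p`-subgroup
-/

set_option autoImplicit false
set_option linter.style.haveILetI false
set_option linter.unusedSectionVars false
set_option linter.unusedFintypeInType false

namespace CfsgLib.CrossDegrees

open Cfsg
open CfsgLib.Characters
open CfsgLib.CharCorr (mult Inv subgroupAct restrictAct fixedSub isFixedHom_fixedSub)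

universe u
variable {G : Type u} [Group G] [Finite G] {p q : ℕ}

/-- A `q`-subgroup lies in a normal subgroup of index prime to `q`. -/
theorem le_of_isPGroup_of_not_dvd_index [hq : Fact q.Prime] {R Q : Subgroup G} [R.Normal]
    (hQ : IsPGroup q Q) (hR : ¬ q ∣ R.index) : Q ≤ R := by
  intro x hx
  obtain ⟨k, hk⟩ := IsPGroup.iff_orderOf.1 hQ ⟨x, hx⟩
  rw [Subgroup.orderOf_mk] at hk
  have h1 : orderOf (x : G ⧸ R) ∣ q ^ k := hk ▸ orderOf_map_dvd (QuotientGroup.mk' R) x
  have h2 : orderOf (x : G ⧸ R) ∣ R.index := Subgroup.index_eq_card R ▸ orderOf_dvd_natCard _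
  have h3 := Nat.eq_one_of_dvd_coprimes ((hq.out.coprime_iff_not_dvd.2 hR).pow_left k) h1 h2
  exact (QuotientGroup.eq_one_iff x).1 (orderOf_eq_one_iff.1 h3)

omit [Finite G] in
/-- Centralizing an element maps into normalizing. -/
theorem le_normalizer_of_commute {P Q : Subgroup G}
    (h : ∀ x ∈ P, ∀ y ∈ Q, x * y = y * x) : P ≤ Subgroup.normalizer (Q : Set G) := by
  intro x hx
  rw [Subgroup.mem_normalizer_iff]
  have e : ∀ y ∈ Q, x * y * x⁻¹ = y := fun y hy => by rw [h x hx y hy, mul_inv_cancel_right]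
  intro y
  constructor
  · intro hy; rwa [e y hy]
  · intro hy
    have h2 := h x⁻¹ (P.inv_mem hx) _ hy
    have : y = x * y * x⁻¹ := by
      calc y = x⁻¹ * (x * y * x⁻¹) * x := by group
        _ = (x * y * x⁻¹) * x⁻¹ * x := by rw [h2]
        _ = x * y * x⁻¹ := by group
    rwa [this]

/-- Conjugation as a map of subgroups. -/
def cj (g : G) (Q : Subgroup G) : Subgroup G := Q.map (MulAut.conj g).toMonoidHom

omit [Finite G] in
theorem mem_cj {g x : G} {Q : Subgroup G} : x ∈ cj g Q ↔ g⁻¹ * x * g ∈ Q := by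
  rw [cj, Subgroup.mem_map]
  constructor
  · rintro ⟨y, hy, rfl⟩
    simpa [mul_assoc] using hy
  · intro h
    exact ⟨_, h, by simp [mul_assoc]⟩

omit [Finite G] in
theorem card_cj (g : G) (Q : Subgroup G) : Nat.card (cj g Q) = Nat.card Q :=
  Subgroup.card_map_of_injective (MulAut.conj g).injective

omit [Finite G] in
theorem cj_le {g : G} {Q K : Subgroup G} (h : ∀ x ∈ Q, g * x * g⁻¹ ∈ K) : cj g Q ≤ K := by
  intro x hx
  rw [mem_cj] at hx
  simpa [mul_assoc] using h _ hx

omit [Finite G] in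
theorem mem_cj_conj {g x : G} {Q : Subgroup G} (hx : x ∈ Q) : g * x * g⁻¹ ∈ cj g Q := by
  rw [mem_cj]; simpa [mul_assoc] using hx

omit [Finite G] in
theorem normalizer_cj {P Q : Subgroup G} {c : G} (hc : c ∈ Subgroup.centralizer (P : Set G))
    (h : P ≤ Subgroup.normalizer (Q : Set G)) : P ≤ Subgroup.normalizer (cj c Q : Set G) := by
  intro u hu
  rw [Subgroup.mem_normalizer_iff]
  intro x
  have hcu : u * c = c * u := Subgroup.mem_centralizer_iff.1 hc u hu
  have hcu' : u⁻¹ * c = c * u⁻¹ := Subgroup.mem_centralizer_iff.1 hc _ (P.inv_mem hu)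
  rw [mem_cj, mem_cj, Subgroup.mem_normalizer_iff.1 (h hu)]
  have : u * (c⁻¹ * x * c) * u⁻¹ = c⁻¹ * (u * x * u⁻¹) * c := by
    calc u * (c⁻¹ * x * c) * u⁻¹ = (u * c⁻¹) * x * (c * u⁻¹) := by group
      _ = (c⁻¹ * u) * x * (u⁻¹ * c) := by
          rw [← hcu', show u * c⁻¹ = c⁻¹ * u from by
            rw [eq_inv_mul_iff_mul_eq, ← mul_assoc, ← hcu, mul_inv_cancel_right]]
      _ = _ := by group
  rw [this]

/-- Two `P`-invariant subgroups of full `q`-order of a `p'`-subgroup are conjugate under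
elements centralizing `P`. -/
theorem exists_conj [hp : Fact p.Prime] [Fact q.Prime] (P K : Subgroup G) (hP : IsPGroup p P)
    (hPK : P ≤ Subgroup.normalizer (K : Set G)) (hpK : ¬ p ∣ Nat.card K) (Q₁ Q₂ : Subgroup G)
    (h₁ : Q₁ ≤ K) (h₂ : Q₂ ≤ K)
    (hc₁ : Nat.card Q₁ = q ^ (Nat.card K).factorization q)
    (hc₂ : Nat.card Q₂ = q ^ (Nat.card K).factorization q)
    (hn₁ : P ≤ Subgroup.normalizer (Q₁ : Set G)) (hn₂ : P ≤ Subgroup.normalizer (Q₂ : Set G)) :
    ∃ k ∈ K ⊓ Subgroup.centralizer (P : Set G), cj k Q₁ = Q₂ := by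
  obtain ⟨a, ha⟩ := IsPGroup.iff_card.1 hP
  have hcop : (Nat.card P).Coprime (Nat.card K) :=
    ha ▸ (hp.out.coprime_iff_not_dvd.2 hpK).pow_left a
  have hsol : Group.IsSolvable P := by
    haveI := hP.isNilpotent
    infer_instance
  let S₁ : Sylow q K := Sylow.ofCard (Q₁.subgroupOf K)
    (by rw [Nat.card_congr (Subgroup.subgroupOfEquivOfLe h₁).toEquiv, hc₁])
  let S₂ : Sylow q K := Sylow.ofCard (Q₂.subgroupOf K)
    (by rw [Nat.card_congr (Subgroup.subgroupOfEquivOfLe h₂).toEquiv, hc₂])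
  have e₁ : (S₁ : Subgroup K).map K.subtype = Q₁ := by
    rw [Sylow.coe_ofCard, Subgroup.map_subgroupOf_eq_of_le h₁]
  have e₂ : (S₂ : Subgroup K).map K.subtype = Q₂ := by
    rw [Sylow.coe_ofCard, Subgroup.map_subgroupOf_eq_of_le h₂]
  obtain ⟨c, hc, he⟩ := CfsgLib.Coprime.invariant_sylow_conj P K hPK hcop (Or.inl hsol) q S₁ S₂
    (by rw [e₁]; exact hn₁) (by rw [e₂]; exact hn₂)
  refine ⟨c, ⟨c.2, hc⟩, ?_⟩
  ext x
  rw [mem_cj, ← e₁, ← e₂, ← he, CfsgLib.Coprime.mem_map_subtype_smul]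

/-- Commuting subgroups generate a solvable group of the expected order. -/
theorem sup_commute [Fact p.Prime] [Fact q.Prime] {P Q : Subgroup G} (hP : IsPGroup p P)
    (hQ : IsPGroup q Q) (h : ∀ x ∈ P, ∀ y ∈ Q, x * y = y * x) :
    Group.IsSolvable ↥(P ⊔ Q) ∧ Nat.card ↥(P ⊔ Q) ∣ Nat.card P * Nat.card Q := by
  let f : P × Q →* G := MonoidHom.noncommCoprod P.subtype Q.subtype (fun x y => h x x.2 y y.2)
  have hr : f.range = P ⊔ Q := by
    exact (MonoidHom.noncommCoprod_range P.subtype Q.subtype _).trans (by rw [Subgroup.range_subtype, Subgroup.range_subtype])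
  haveI := hP.isNilpotent
  haveI := hQ.isNilpotent
  rw [← hr]
  exact ⟨Group.isSolvable_of_surjective f.rangeRestrict_surjective,
    Nat.card_prod P Q ▸ Subgroup.card_dvd_of_surjective _ f.rangeRestrict_surjective⟩

/-- If every irreducible character of `p'`-degree has `q'`-degree, the centralizer of a Sylow
`p`-subgroup in a normal `p'`-subgroup of `q'`-index normalizes the centralized Sylow
`q`-subgroup. -/
theorem normalizes (n : ℕ) : ∀ {H : Type u} [Group H] [Finite H] [Fact p.Prime] [Fact q.Prime],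
    Nat.card H ≤ n → IsPSolvable q H → p ≠ q → ∀ (R : Subgroup H), R.Normal → ¬ p ∣ Nat.card R →
    ¬ q ∣ R.index → ∀ (P : Sylow p H) (Q : Sylow q H),
    (∀ x ∈ (P : Subgroup H), ∀ y ∈ (Q : Subgroup H), x * y = y * x) →
    (∀ χ : IrrCharacter H, ¬ p ∣ charDegree (χ : H → ℂ) → ¬ q ∣ charDegree (χ : H → ℂ)) →
    ∀ c ∈ R, c ∈ Subgroup.centralizer ((P : Subgroup H) : Set H) →
    ∀ x ∈ (Q : Subgroup H), c * x * c⁻¹ ∈ (Q : Subgroup H) := by
  induction n with
  | zero =>
    intro H _ _ _ _ hcard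
    exact absurd hcard (Nat.not_le.2 Nat.card_pos)
  | succ n ih =>
  intro H _ _ hp hq hcard hqs hpq R hRn hpR hqR P Q hcomm hdeg c hcR hcC x hx
  classical
  haveI := hRn
  haveI := Fintype.ofFinite H
  by_cases hQbot : (Q : Subgroup H) = ⊥
  · rw [hQbot, Subgroup.mem_bot] at hx ⊢
    simp [hx]
  have hQR : (Q : Subgroup H) ≤ R := le_of_isPGroup_of_not_dvd_index Q.isPGroup' hqR
  have hPQ : (P : Subgroup H) ≤ Subgroup.normalizer ((Q : Subgroup H) : Set H) :=
    le_normalizer_of_commute hcomm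
  -- the normal subgroup
  obtain ⟨N, hNn, hNbot, hNR, hNcase⟩ : ∃ N : Subgroup H, N.Normal ∧ N ≠ ⊥ ∧ N ≤ R ∧
      (N ≤ (Q : Subgroup H) ∨ ¬ q ∣ Nat.card N) := by
    by_cases hO : pCore q H = ⊥
    · haveI : Nontrivial R := (Subgroup.nontrivial_iff_ne_bot R).2
        (fun h => hQbot (le_bot_iff.1 (h ▸ hQR)))
      have hOR : pCore q R = ⊥ := CfsgLib.PCore.pCore_eq_bot_of_normal R hO
      have h1 := (CfsgLib.PCore.pCore_ne_bot_or_pPrimeCore_ne_bot
        (CfsgLib.PCore.isPSolvable_subgroup hqs R)).resolve_left (fun h => h hOR)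
      refine ⟨(pPrimeCore q R).map R.subtype, inferInstance, ?_, Subgroup.map_subtype_le _, Or.inr ?_⟩
      · rwa [Ne, Subgroup.map_eq_bot_iff_of_injective _ R.subtype_injective]
      · rw [Subgroup.card_map_of_injective R.subtype_injective]
        exact CfsgLib.PCore.not_dvd_card_pPrimeCore
    · exact ⟨pCore q H, inferInstance, hO, (CfsgLib.PCore.pCore_le_sylow Q).trans hQR,
        Or.inl (CfsgLib.PCore.pCore_le_sylow Q)⟩
  haveI := hNn
  haveI := Fintype.ofFinite N
  set π := QuotientGroup.mk' N with hπ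
  have hsurj : Function.Surjective π := QuotientGroup.mk'_surjective N
  have hlt : Nat.card (H ⧸ N) ≤ n := by
    have h1 := N.card_eq_card_quotient_mul_card_subgroup
    have h2 : 1 < Nat.card N := N.one_lt_card_iff_ne_bot.2 hNbot
    have h3 : 0 < Nat.card (H ⧸ N) := Nat.card_pos
    nlinarith
  have hbar : ∀ d ∈ R, d ∈ Subgroup.centralizer ((P : Subgroup H) : Set H) →
      ∀ y ∈ (Q : Subgroup H), d * y * d⁻¹ ∈ (Q : Subgroup H) ⊔ N := by
    intro d hdR hdC y hy
    have h := ih hlt (CfsgLib.PCore.isPSolvable_quotient hqs N) hpq (R.map π)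
      (hRn.map π hsurj) (fun hd => hpR (hd.trans (Subgroup.card_map_dvd _ π)))
      (fun hd => hqR (hd.trans (Subgroup.index_map_dvd _ hsurj)))
      (P.mapSurjective hsurj) (Q.mapSurjective hsurj)
      (by
        rintro _ ⟨a, ha, rfl⟩ _ ⟨b, hb, rfl⟩
        rw [← map_mul, ← map_mul, hcomm a ha b hb])
      (fun χ hχ => by
        let χ' : IrrCharacter H := ⟨_, CfsgLib.Clifford.isIrrCharacter_pullback χ.2 π hsurj⟩
        have e : charDegree (χ' : H → ℂ) = charDegree (χ : H ⧸ N → ℂ) := by simp [charDegree, χ']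
        exact e ▸ hdeg χ' (e ▸ hχ))
      (π d) (Subgroup.mem_map_of_mem π hdR)
      (Subgroup.mem_centralizer_iff.2 (by
        rintro _ ⟨a, ha, rfl⟩
        rw [← map_mul, ← map_mul, Subgroup.mem_centralizer_iff.1 hdC a ha]))
      (π y) (Subgroup.mem_map_of_mem π hy)
    rw [← map_inv, ← map_mul, ← map_mul] at h
    change π (d * y * d⁻¹) ∈ (Q : Subgroup H).map π at h
    rw [← QuotientGroup.ker_mk' N, ← Subgroup.comap_map_eq]
    exact h
  rcases hNcase with hNQ | hqN
  · simpa [sup_eq_left.2 hNQ] using hbar c hcR hcC x hx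
  have hpN : ¬ p ∣ Nat.card N := fun hd => hpR (hd.trans (Subgroup.card_dvd_of_le hNR))
  -- the Sylow subgroups of `Q ⊔ N` invariant under `P`
  have hQcard : Nat.card (Q : Subgroup H) = q ^ (Nat.card H).factorization q :=
    Q.card_eq_multiplicity
  have hfull : ∀ K : Subgroup H, (Q : Subgroup H) ≤ K →
      (Nat.card K).factorization q = (Nat.card H).factorization q := by
    intro K hK
    refine le_antisymm
      ((Nat.factorization_le_iff_dvd Nat.card_pos.ne' Nat.card_pos.ne').2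
        (Subgroup.card_subgroup_dvd_card K) q) ?_
    rw [← hq.out.pow_dvd_iff_le_factorization Nat.card_pos.ne', ← hQcard]
    exact Subgroup.card_dvd_of_le hK
  set K : Subgroup H := (Q : Subgroup H) ⊔ N with hK
  have hKR : K ≤ R := sup_le hQR hNR
  have hPK : (P : Subgroup H) ≤ Subgroup.normalizer (K : Set H) := by
    intro u hu
    rw [Subgroup.mem_normalizer_iff]
    have key : ∀ v ∈ (P : Subgroup H), ∀ y ∈ K, v * y * v⁻¹ ∈ K := by
      intro v hv y hy
      obtain ⟨a, ha, b, hb, rfl⟩ := Subgroup.mem_sup_of_normal_right.1 hy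
      rw [show v * (a * b) * v⁻¹ = (v * a * v⁻¹) * (v * b * v⁻¹) by group]
      exact K.mul_mem (le_sup_left (a := (Q : Subgroup H))
        ((Subgroup.mem_normalizer_iff.1 (hPQ hv) a).1 ha)) (le_sup_right (b := N) (hNn.conj_mem b hb v))
    exact fun y => ⟨key u hu y, fun h => by
      have := key u⁻¹ (Subgroup.inv_mem _ hu) _ h
      simpa [mul_assoc] using this⟩
  have hconj : ∀ d ∈ Subgroup.centralizer ((P : Subgroup H) : Set H),
      cj d (Q : Subgroup H) ≤ K →
      ∃ m ∈ N, m ∈ Subgroup.centralizer ((P : Subgroup H) : Set H) ∧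
        cj m (Q : Subgroup H) = cj d (Q : Subgroup H) := by
    intro d hd hdK
    obtain ⟨k, ⟨hkK, hkC⟩, hk⟩ := exists_conj (p := p) (q := q) (P : Subgroup H) K P.isPGroup' hPK
      (fun h => hpR (h.trans (Subgroup.card_dvd_of_le hKR))) (Q : Subgroup H) (cj d Q)
      le_sup_left hdK (by rw [hfull K le_sup_left, hQcard])
      (by rw [card_cj, hfull K le_sup_left, hQcard]) hPQ (normalizer_cj hd hPQ)
    obtain ⟨y, hy, z, hz, rfl⟩ := Subgroup.mem_sup_of_normal_right.1 hkK
    have hyC : y ∈ Subgroup.centralizer ((P : Subgroup H) : Set H) :=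
      Subgroup.mem_centralizer_iff.2 fun u hu => hcomm u hu y hy
    refine ⟨y * z * y⁻¹, hNn.conj_mem z hz y, Subgroup.mul_mem _ hkC (Subgroup.inv_mem _ hyC), ?_⟩
    rw [← hk]
    ext w
    rw [mem_cj, mem_cj]
    have : (y * z * y⁻¹)⁻¹ * w * (y * z * y⁻¹) = y * ((y * z)⁻¹ * w * (y * z)) * y⁻¹ := by group
    rw [this]
    exact ((Subgroup.mem_normalizer_iff.1 (Subgroup.le_normalizer hy)) _).symm
  -- `Q` fixes every `P`-invariant character of `N`
  set D := N ⊓ Subgroup.centralizer ((P : Subgroup H) : Set H) with hD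
  have hfix : ∀ φ : IrrCharacter N,
      (P : Subgroup H) ≤ CfsgLib.Clifford.inertia hNn (φ : N → ℂ) →
      (Q : Subgroup H) ≤ CfsgLib.Clifford.inertia hNn (φ : N → ℂ) := by
    intro φ hφ
    set I := CfsgLib.Clifford.inertia hNn (φ : N → ℂ) with hI
    obtain ⟨χ, hχp, hχ⟩ := exists_over_invariant N hpN P φ hφ
    have hqI : ¬ q ∣ I.index := not_dvd_index_inertia N χ (hdeg χ hχp) φ hχ
    obtain ⟨S⟩ : Nonempty (Sylow q I) := inferInstance
    have hSR : (S : Subgroup I).map I.subtype ≤ R :=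
      le_of_isPGroup_of_not_dvd_index (S.isPGroup'.map _) hqR
    set RI := R ⊓ I with hRI
    have hScard : Nat.card ((S : Subgroup I).map I.subtype) = q ^ (Nat.card H).factorization q := by
      rw [Subgroup.card_map_of_injective I.subtype_injective, S.card_eq_multiplicity,
        ← I.card_mul_index, Nat.factorization_mul Nat.card_pos.ne' Subgroup.index_ne_zero_of_finite,
        Finsupp.add_apply, Nat.factorization_eq_zero_of_not_dvd hqI, add_zero]
    have hRIfull : (Nat.card RI).factorization q = (Nat.card H).factorization q := by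
      refine le_antisymm
        ((Nat.factorization_le_iff_dvd Nat.card_pos.ne' Nat.card_pos.ne').2
          (Subgroup.card_subgroup_dvd_card RI) q) ?_
      rw [← hq.out.pow_dvd_iff_le_factorization Nat.card_pos.ne', ← hScard]
      exact Subgroup.card_dvd_of_le (le_inf hSR (Subgroup.map_subtype_le _))
    have hPRI : (P : Subgroup H) ≤ Subgroup.normalizer (RI : Set H) := by
      intro u hu
      rw [Subgroup.mem_normalizer_iff]
      intro y
      refine ⟨fun hy => ⟨hRn.conj_mem y hy.1 u, I.mul_mem (I.mul_mem (hφ hu) hy.2) (I.inv_mem (hφ hu))⟩,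
        fun hy => ⟨?_, ?_⟩⟩
      · simpa [mul_assoc] using hRn.conj_mem _ hy.1 u⁻¹
      · simpa [mul_assoc] using I.mul_mem (I.mul_mem (I.inv_mem (hφ hu)) hy.2) (hφ hu)
    obtain ⟨a, ha⟩ := IsPGroup.iff_card.1 P.isPGroup'
    have hpRI : ¬ p ∣ Nat.card RI := fun h => hpR (h.trans (Subgroup.card_dvd_of_le inf_le_left))
    haveI := P.isPGroup'.isNilpotent
    obtain ⟨S₁, hS₁⟩ := CfsgLib.Coprime.exists_invariant_sylow (P : Subgroup H) RI hPRI
      (ha ▸ (hp.out.coprime_iff_not_dvd.2 hpRI).pow_left a) (Or.inl inferInstance) q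
    have hS₁c : Nat.card ((S₁ : Subgroup RI).map RI.subtype) = q ^ (Nat.card H).factorization q := by
      rw [Subgroup.card_map_of_injective RI.subtype_injective, S₁.card_eq_multiplicity, hRIfull]
    obtain ⟨d, ⟨hdR, hdC⟩, hd⟩ := exists_conj (p := p) (q := q) (P : Subgroup H) R P.isPGroup'
      (fun u _ => by rw [Subgroup.normalizer_eq_top]; trivial) hpR (Q : Subgroup H)
      ((S₁ : Subgroup RI).map RI.subtype) hQR ((Subgroup.map_subtype_le _).trans inf_le_left)
      (by rw [hfull R hQR, hQcard]) (by rw [hfull R hQR, hS₁c]) hPQ hS₁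
    -- the conjugate lies in `Q ⊔ N` by induction
    have hdK : cj d (Q : Subgroup H) ≤ K := cj_le (hbar d hdR hdC)
    obtain ⟨m, hmN, -, hm⟩ := hconj d hdC hdK
    intro y hy
    have h1 : m * y * m⁻¹ ∈ I := by
      have h2 := mem_cj_conj (g := m) hy
      rw [hm, hd] at h2
      exact ((Subgroup.map_subtype_le _).trans inf_le_right : _ ≤ I) h2
    have hmI : m ∈ I := CfsgLib.Clifford.le_inertia hNn (irr_isClassFunction φ) hmN
    simpa [mul_assoc] using I.mul_mem (I.mul_mem (I.inv_mem hmI) h1) hmI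
  -- so `Q` centralizes `D`
  have hDQ : ∀ y ∈ D, ∀ z ∈ (Q : Subgroup H), z * y = y * z := by
    obtain ⟨hSsol, hScard⟩ := sup_commute P.isPGroup' Q.isPGroup' hcomm
    set S := (P : Subgroup H) ⊔ (Q : Subgroup H) with hS
    let actS : S →* MulAut N := subgroupAct N S fun s _ g hg => hNn.conj_mem g hg s
    let actP : (P : Subgroup H) →* MulAut N :=
      subgroupAct N (P : Subgroup H) fun s _ g hg => hNn.conj_mem g hg s
    obtain ⟨a, ha⟩ := IsPGroup.iff_card.1 P.isPGroup'
    obtain ⟨b, hb⟩ := IsPGroup.iff_card.1 Q.isPGroup'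
    have hcopP : (Nat.card N).Coprime (Nat.card (P : Subgroup H)) :=
      ha ▸ ((hp.out.coprime_iff_not_dvd.2 hpN).pow_left a).symm
    have hcopS : (Nat.card N).Coprime (Nat.card S) :=
      (Nat.Coprime.mul_right hcopP (hb ▸ ((hq.out.coprime_iff_not_dvd.2 hqN).pow_left b).symm)
        ).coprime_dvd_right hScard
    haveI := P.isPGroup'.isNilpotent
    have hcS := CfsgLib.CharCorr.card_inv_eq_card_classes _ S N actS rfl hSsol hcopS
    have hcP := CfsgLib.CharCorr.card_inv_eq_card_classes _ (P : Subgroup H) N actP rfl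
      inferInstance hcopP
    have hiff : ∀ φ : IrrCharacter N, Inv actS φ ↔ Inv actP φ := by
      intro φ
      constructor
      · exact fun h s g => h ⟨s, le_sup_left (b := (Q : Subgroup H)) s.2⟩ g
      · intro h s g
        have hle : S ≤ CfsgLib.Clifford.inertia hNn (φ : N → ℂ) :=
          sup_le (fun u hu => CfsgLib.Clifford.mem_inertia.2 fun n => h ⟨u, hu⟩ n)
            (hfix φ fun u hu => CfsgLib.Clifford.mem_inertia.2 fun n => h ⟨u, hu⟩ n)
        exact CfsgLib.Clifford.mem_inertia.1 (hle s.2) g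
    rw [Nat.card_congr (Equiv.subtypeEquivRight hiff), hcP] at hcS
    set A : Set (ConjClasses N) :=
      {K | ∀ (s : S) g, ConjClasses.mk g = K → ConjClasses.mk (actS s g) = K}
    set B : Set (ConjClasses N) :=
      {K | ∀ (s : (P : Subgroup H)) g, ConjClasses.mk g = K → ConjClasses.mk (actP s g) = K}
    have hAB : A = B := Set.eq_of_subset_of_ncard_le
      (fun K hK s g hg => hK ⟨s, le_sup_left (b := (Q : Subgroup H)) s.2⟩ g hg)
      (by rw [← Nat.card_coe_set_eq, ← Nat.card_coe_set_eq]; exact le_of_eq hcS)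
      (Set.toFinite _)
    let D' : Subgroup N := fixedSub actP
    haveI := Fintype.ofFinite D'
    have hf := isFixedHom_fixedSub actP
    let actQ : (Q : Subgroup H) →* MulAut D' := restrictAct
      (subgroupAct N (Q : Subgroup H) fun s _ g hg => hNn.conj_mem g hg s) D'
      (fun z g hg u => Subtype.ext (by
        change (u : H) * ((z : H) * g * (z : H)⁻¹) * (u : H)⁻¹ = (z : H) * g * (z : H)⁻¹
        have h1 : (u : H) * g * (u : H)⁻¹ = g := congrArg Subtype.val (hg u)
        have h2 : (u : H) * z = z * u := hcomm u u.2 z z.2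
        calc (u : H) * ((z : H) * g * (z : H)⁻¹) * (u : H)⁻¹
            = ((u : H) * z) * g * ((u : H) * z)⁻¹ := by group
          _ = ((z : H) * u) * g * ((z : H) * u)⁻¹ := by rw [h2]
          _ = (z : H) * ((u : H) * g * (u : H)⁻¹) * (z : H)⁻¹ := by group
          _ = _ := by rw [h1]))
    have hclass : ∀ (y : D') (z : (Q : Subgroup H)), IsConj y (actQ z y) := by
      intro y z
      refine CfsgLib.CharCorr.isConj_of_isConj_map hp.out P.isPGroup' hf hpN ?_
      have hB : ConjClasses.mk (y : N) ∈ B := by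
        intro s g hg
        have h1 := (ConjClasses.mk_eq_mk_iff_isConj.1 hg)
        have h2 := (actP s).toMonoidHom.map_isConj h1
        change IsConj (actP s g) (actP s (y : N)) at h2
        rw [y.2 s] at h2
        exact ConjClasses.mk_eq_mk_iff_isConj.2 h2
      rw [← hAB] at hB
      have h3 := ConjClasses.mk_eq_mk_iff_isConj.1
        (hB ⟨z, le_sup_right (a := (P : Subgroup H)) z.2⟩ y rfl)
      exact h3.symm
    have hqD : ¬ q ∣ Nat.card D' := fun h => hqN (h.trans (Subgroup.card_subgroup_dvd_card D'))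
    haveI : Fintype (fixedSub actQ) := Fintype.ofFinite _
    have htop : fixedSub actQ = ⊤ := eq_top_of_forall_conj_mem fun y => by
      obtain ⟨w, hw⟩ := CfsgLib.CharCorr.exists_fixed_of_class hq.out Q.isPGroup'
        (isFixedHom_fixedSub actQ) hqD y (hclass y)
      obtain ⟨g, hg⟩ := isConj_iff.1 hw
      exact ⟨g, hg ▸ w.2⟩
    intro y hy z hz
    have hyD : (⟨y, hy.1⟩ : N) ∈ D' := fun u => Subtype.ext (by
      change (u : H) * y * (u : H)⁻¹ = y
      rw [Subgroup.mem_centralizer_iff.1 hy.2 u u.2, mul_inv_cancel_right])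
    have h := (htop ▸ Subgroup.mem_top _ : (⟨⟨y, hy.1⟩, hyD⟩ : D') ∈ fixedSub actQ) ⟨z, hz⟩
    have h2 : z * y * z⁻¹ = y := congrArg (fun w : D' => ((w : N) : H)) h
    exact mul_inv_eq_iff_eq_mul.1 h2
  have hcK : cj c (Q : Subgroup H) ≤ K := cj_le (hbar c hcR hcC)
  obtain ⟨m, hmN, hmC, hm⟩ := hconj c hcC hcK
  have h1 := mem_cj_conj (g := c) hx
  rw [← hm, mem_cj] at h1
  have h2 := hDQ m ⟨hmN, hmC⟩ _ h1
  have e : c * x * c⁻¹ = m⁻¹ * (c * x * c⁻¹) * m :=
    calc c * x * c⁻¹ = m * (m⁻¹ * (c * x * c⁻¹) * m) * m⁻¹ := by group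
      _ = (m⁻¹ * (c * x * c⁻¹) * m) * m * m⁻¹ := by rw [h2]
      _ = _ := by group
  exact e ▸ h1

end CfsgLib.CrossDegrees
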